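import Mathlib

/-!
# Descent along flat coverings which are quasi-compact in the fpqc sense
-/

open CategoryTheory CategoryTheory.Limits AlgebraicGeometry MorphismProperty

namespace Groth.Agent.Lib.Helper6.FlatQ

universe u

/-- `q` is a quasi-compact covering in the fpqc sense: every affine open of the target is the
image of a quasi-compact open of the source. -/
def WQC {Z Y : Scheme.{u}} (q : Z ⟶ Y) : Prop :=
  QuasiCompactCover (PreZeroHypercover.singleton.{u} q)

variable {Z Z' Y T : Scheme.{u}}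

theorem WQC.of_forall (q : Z ⟶ Y) (h : ∀ V : Y.Opens, IsAffineOpen V →
    ∃ W : Z.Opens, IsCompact (W : Set Z) ∧ q.base '' (W : Set Z) = (V : Set Y)) : WQC q := by
  refine ⟨fun {U} hU => ?_⟩
  obtain ⟨W, hW, hWU⟩ := h U hU
  refine ⟨Set.univ, Set.finite_univ, fun _ _ => W, fun _ _ => hW, ?_⟩
  rw [← hWU]
  ext y
  simp only [PreZeroHypercover.singleton_f, Set.mem_univ, Set.iUnion_true, Set.mem_iUnion,
    Set.mem_image, SetLike.mem_coe]
  exact ⟨fun ⟨_, hx⟩ => hx, fun hx => ⟨PUnit.unit, hx⟩⟩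

theorem WQC.exists_compact {q : Z ⟶ Y} (hq : WQC q) {V : Y.Opens} (hV : IsAffineOpen V) :
    ∃ W : Z.Opens, IsCompact (W : Set Z) ∧ q.base '' (W : Set Z) = (V : Set Y) := by
  obtain ⟨s, hs, Ws, hc, hU⟩ := hq.isCompactOpenCovered_of_isAffineOpen hV
  by_cases h : PUnit.unit ∈ s
  · refine ⟨Ws _ h, hc _ h, ?_⟩
    rw [← hU]
    ext y
    simp only [PreZeroHypercover.singleton_f, Set.mem_iUnion]
    constructor
    · intro hy
      exact ⟨PUnit.unit, h, hy⟩
    · rintro ⟨i, hi, hy⟩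
      exact hy
  · refine ⟨⊥, by simp, ?_⟩
    rw [← hU]
    ext y
    simp only [TopologicalSpace.Opens.coe_bot, Set.image_empty, Set.mem_empty_iff_false,
      Set.mem_iUnion, false_iff]
    rintro ⟨i, hi, -⟩
    exact h hi

theorem WQC.surjective {q : Z ⟶ Y} (hq : WQC q) : Surjective q := by
  constructor
  intro y
  obtain ⟨V, hV, hy, -⟩ := TopologicalSpace.Opens.isBasis_iff_nbhd.mp Y.isBasis_affineOpens
    (show y ∈ (⊤ : Y.Opens) from trivial)
  obtain ⟨W, -, hW⟩ := hq.exists_compact hV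
  have : y ∈ q.base '' (W : Set Z) := hW ▸ hy
  obtain ⟨z, -, hz⟩ := this
  exact ⟨z, hz⟩

theorem WQC.of_factor {q : Z ⟶ Y} {q' : Z' ⟶ Y} (g : Z ⟶ Z') (h : g ≫ q' = q) (hq : WQC q) :
    WQC q' := by
  have : QuasiCompactCover (PreZeroHypercover.singleton.{u} q) := hq
  exact QuasiCompactCover.of_hom (𝒱 := PreZeroHypercover.singleton.{u} q)
    (𝒰 := PreZeroHypercover.singleton.{u} q')
    { s₀ := fun _ => PUnit.unit, h₀ := fun _ => g, w₀ := fun _ => h }

theorem WQC.pullback_fst {q : Z ⟶ Y} (hq : WQC q) (g : T ⟶ Y) : WQC (pullback.fst g q) := by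
  have : QuasiCompactCover (PreZeroHypercover.singleton.{u} q) := hq
  have h1 : QuasiCompactCover ((PreZeroHypercover.singleton.{u} q).pullback₁ g) := inferInstance
  exact QuasiCompactCover.of_hom (𝒱 := (PreZeroHypercover.singleton.{u} q).pullback₁ g)
    (𝒰 := PreZeroHypercover.singleton.{u} (pullback.fst g q))
    { s₀ := fun _ => PUnit.unit, h₀ := fun _ => 𝟙 _, w₀ := fun _ => Category.id_comp _ }

theorem WQC.comp {q₁ : Z ⟶ Y} {q₂ : Z' ⟶ Z} (h₁ : WQC q₁) (h₂ : WQC q₂) : WQC (q₂ ≫ q₁) := by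
  have : QuasiCompactCover (PreZeroHypercover.singleton.{u} q₁) := h₁
  have : ∀ x : (PreZeroHypercover.singleton.{u} q₁).I₀,
      QuasiCompactCover ((fun _ => PreZeroHypercover.singleton.{u} q₂ :
        ∀ x : (PreZeroHypercover.singleton.{u} q₁).I₀,
          PreZeroHypercover.{u} ((PreZeroHypercover.singleton.{u} q₁).X x)) x) := fun _ => h₂
  have h3 : QuasiCompactCover ((PreZeroHypercover.singleton.{u} q₁).bind
      (fun _ => PreZeroHypercover.singleton.{u} q₂)) := inferInstance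
  exact QuasiCompactCover.of_hom
    (𝒱 := (PreZeroHypercover.singleton.{u} q₁).bind (fun _ => PreZeroHypercover.singleton.{u} q₂))
    (𝒰 := PreZeroHypercover.singleton.{u} (q₂ ≫ q₁))
    { s₀ := fun _ => PUnit.unit, h₀ := fun _ => 𝟙 _, w₀ := fun _ => Category.id_comp _ }

theorem WQC.of_isPullback {A X : Scheme.{u}} {fst : A ⟶ X} {snd : A ⟶ Z} {f : X ⟶ Y} {q : Z ⟶ Y}
    (h : IsPullback fst snd f q) (hq : WQC q) : WQC fst := by
  have h1 := hq.pullback_fst f
  refine WQC.of_factor h.isoPullback.inv ?_ h1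
  exact h.isoPullback_inv_fst

/-- Flat coverings, quasi-compact in the fpqc sense. -/
def FQC : MorphismProperty Scheme.{u} := fun _ _ q => Flat q ∧ WQC q

instance : FQC.{u}.IsStableUnderBaseChange where
  of_isPullback sq hg :=
    ⟨MorphismProperty.of_isPullback (P := @Flat) sq hg.1, WQC.of_isPullback sq.flip hg.2⟩

set_option backward.isDefEq.respectTransparency.types false in
instance descendsAlong_FQC (P : MorphismProperty Scheme.{u})
    [P.DescendsAlong (@Surjective ⊓ @Flat ⊓ @QuasiCompact)] [IsZariskiLocalAtTarget P] :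
    P.DescendsAlong FQC.{u} := by
  apply IsZariskiLocalAtTarget.descendsAlong
  rintro R X Y f g ⟨h₁, h₂⟩ H
  obtain ⟨V, hV, e⟩ := h₂.exists_compact (isAffineOpen_top (Spec R))
  refine MorphismProperty.of_isPullback_of_descendsAlong (Q := @Surjective ⊓ @Flat ⊓ @QuasiCompact)
    (.paste_vert (.of_hasPullback V.ι _) (.of_hasPullback f g)) ⟨⟨?_, inferInstance⟩,
      (quasiCompact_iff_compactSpace _).mpr (isCompact_iff_compactSpace.mp hV)⟩ ?_
  · exact ⟨fun x ↦ have ⟨y, hyV, e⟩ := e.ge (Set.mem_univ x); ⟨⟨y, hyV⟩, e⟩⟩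
  · exact IsZariskiLocalAtTarget.of_isPullback (.flip <| .of_hasPullback _ _) H

end Groth.Agent.Lib.Helper6.FlatQ
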