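import Mathlib
import Groth.Agent.Lib.Helper6.FlatQ.WQC

/-!
# The graph `X ×_Y X → X ×_S X` of the equivalence relation of `p : X → Y`, and separatedness
of fpqc quotients
-/

open CategoryTheory CategoryTheory.Limits MonoidalCategory CartesianMonoidalCategory
  AlgebraicGeometry

namespace Groth.Agent.Lib.Helper6.FlatQ

universe v u

section Cat

variable {C : Type u} [Category.{v} C] [CartesianMonoidalCategory C] [HasPullbacks C]
  {X Y : C} (p : X ⟶ Y)

/-- The graph of the equivalence relation defined by `p`. -/
noncomputable abbrev graphMap : pullback p p ⟶ X ⊗ X := lift (pullback.fst p p) (pullback.snd p p)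

theorem isPullback_graph :
    IsPullback (graphMap p) (pullback.fst p p ≫ p) (p ⊗ₘ p) (lift (𝟙 Y) (𝟙 Y)) := by
  have hw : graphMap p ≫ (p ⊗ₘ p) = (pullback.fst p p ≫ p) ≫ lift (𝟙 Y) (𝟙 Y) := by
    apply CartesianMonoidalCategory.hom_ext
    · simp only [Category.assoc, tensorHom_fst, lift_fst_assoc, lift_fst, Category.comp_id]
    · simp only [Category.assoc, tensorHom_snd, lift_snd_assoc, lift_snd, Category.comp_id,
        pullback.condition]
  refine ⟨⟨hw⟩, ⟨PullbackCone.IsLimit.mk hw ?_ ?_ ?_ ?_⟩⟩
  · intro s
    refine pullback.lift (s.fst ≫ fst X X) (s.fst ≫ snd X X) ?_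
    have h1 := congrArg (fun z => z ≫ fst Y Y) s.condition
    have h2 := congrArg (fun z => z ≫ snd Y Y) s.condition
    simp only [Category.assoc, tensorHom_fst, tensorHom_snd, lift_fst, lift_snd,
      Category.comp_id] at h1 h2
    rw [Category.assoc, Category.assoc, h1, h2]
  · intro s
    apply CartesianMonoidalCategory.hom_ext
    · simp only [Category.assoc, lift_fst, pullback.lift_fst]
    · simp only [Category.assoc, lift_snd, pullback.lift_snd]
  · intro s
    have h1 := congrArg (fun z => z ≫ fst Y Y) s.condition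
    simp only [Category.assoc, tensorHom_fst, lift_fst, Category.comp_id] at h1
    rw [← Category.assoc, pullback.lift_fst, Category.assoc, h1]
  · intro s m hm1 _
    apply pullback.hom_ext
    · rw [pullback.lift_fst, ← hm1, Category.assoc, lift_fst]
    · rw [pullback.lift_snd, ← hm1, Category.assoc, lift_snd]

end Cat

section Sch

variable {S : Scheme.{u}} {X Y : Over S} (p : X ⟶ Y)

theorem isPullback_graph_left :
    IsPullback (graphMap p).left (pullback.fst p p ≫ p).left (p ⊗ₘ p).left
      (pullback.diagonal Y.hom) := by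
  have h := (isPullback_graph p).map (Over.forget S)
  have h2 : (lift (𝟙 Y) (𝟙 Y)).left = pullback.diagonal Y.hom := by
    apply pullback.hom_ext
    · rw [pullback.diagonal_fst]
      exact (congrArg (fun z => z.left) (lift_fst (𝟙 Y) (𝟙 Y)))
    · rw [pullback.diagonal_snd]
      exact (congrArg (fun z => z.left) (lift_snd (𝟙 Y) (𝟙 Y)))
  rw [← h2]
  exact h

theorem isImmersion_graph : IsImmersion (graphMap p).left :=
  MorphismProperty.of_isPullback (P := @IsImmersion) (isPullback_graph_left p).flip inferInstance

theorem isClosedImmersion_graph [IsSeparated Y.hom] : IsClosedImmersion (graphMap p).left :=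
  MorphismProperty.of_isPullback (P := @IsClosedImmersion) (isPullback_graph_left p).flip
    inferInstance

theorem FQC.id_mem (T : Scheme.{u}) : FQC (𝟙 T) := by
  refine ⟨inferInstance, WQC.of_forall _ fun V hV => ⟨V, hV.isCompact, ?_⟩⟩
  simp

instance : FQC.{u}.IsMultiplicative where
  id_mem := FQC.id_mem
  comp_mem f g hf hg :=
    ⟨by have := hf.1; have := hg.1; infer_instance, WQC.comp hg.2 hf.2⟩

theorem prop_tensorHom (P : MorphismProperty Scheme.{u}) [P.IsStableUnderBaseChange]
    [P.IsMultiplicative] {A B : Over S} (f : A ⟶ B) (hf : P f.left) :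
    P (f ⊗ₘ f).left := by
  rw [MonoidalCategory.tensorHom_def, Over.comp_left]
  refine P.comp_mem _ _ ?_ ?_
  · rw [Over.whiskerRight_left]
    exact MorphismProperty.pullbackMap hf (P.id_mem _) (Over.w f).symm (Category.id_comp _).symm
  · rw [Over.whiskerLeft_left]
    exact MorphismProperty.pullbackMap (P.id_mem _) hf (Category.id_comp _).symm (Over.w f).symm

/-- If `p` is covering for the fpqc topology and the graph of its equivalence relation is a closed
immersion, then `Y` is separated. -/
theorem isSeparated_of_isClosedImmersion_graph {Z : Scheme.{u}} (q : Z ⟶ Y.left) (r : Z ⟶ X.left)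
    (h : r ≫ p.left = q) (hq : FQC q) (hv : IsClosedImmersion (graphMap p).left) :
    IsSeparated Y.hom := by
  let Zo : Over S := Over.mk (q ≫ Y.hom)
  let q' : Zo ⟶ Y := Over.homMk q rfl
  have hr : r ≫ X.hom = Zo.hom := by
    change r ≫ X.hom = q ≫ Y.hom
    rw [← h, Category.assoc, Over.w p]
  let r' : Zo ⟶ X := Over.homMk r hr
  have hrq : r' ≫ p = q' := Over.OverMorphism.ext h
  have hqq : FQC (q' ⊗ₘ q').left := prop_tensorHom FQC q' hq
  have sq1 := (IsPullback.of_hasPullback (r' ⊗ₘ r').left (graphMap p).left).flip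
  have sq2 := (isPullback_graph_left p).flip
  have sq := (sq1.paste_horiz sq2).flip
  have hcomp : (r' ⊗ₘ r').left ≫ (p ⊗ₘ p).left = (q' ⊗ₘ q').left := by
    rw [← Over.comp_left, tensorHom_comp_tensorHom, hrq]
  rw [hcomp] at sq
  have hfst : UniversallyClosed (pullback.fst (r' ⊗ₘ r').left (graphMap p).left) := by
    have : IsClosedImmersion (pullback.fst (r' ⊗ₘ r').left (graphMap p).left) :=
      MorphismProperty.pullback_fst (P := @IsClosedImmersion) _ _ hv
    infer_instance
  have huc : UniversallyClosed (pullback.diagonal Y.hom) :=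
    MorphismProperty.of_isPullback_of_descendsAlong (P := @UniversallyClosed) (Q := FQC) sq hqq hfst
  have hcl : IsClosedImmersion (pullback.diagonal Y.hom) :=
    IsClosedImmersion.of_isPreimmersion _ (pullback.diagonal Y.hom).isClosedMap.isClosed_range
  exact ⟨hcl⟩

end Sch

end Groth.Agent.Lib.Helper6.FlatQ
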