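import Mathlib
import Groth.Agent.Lib.Helper6.FlatQ.Graph

/-!
# Morphisms covering for the fpqc topology are (universally) effective epimorphisms
-/

open CategoryTheory CategoryTheory.Limits AlgebraicGeometry MorphismProperty

namespace Groth.Agent.Lib.Helper6.FlatQ

universe u

/-- `p` is covering for the fpqc topology: some flat covering `q`, quasi-compact in the fpqc
sense, factors through `p`. -/
def FCov : MorphismProperty Scheme.{u} := fun X Y p =>
  ∃ (Z : Scheme.{u}) (q : Z ⟶ Y) (r : Z ⟶ X), r ≫ p = q ∧ FQC q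

theorem FQC.pullback_fst {Z Y T : Scheme.{u}} {q : Z ⟶ Y} (hq : FQC q) (g : T ⟶ Y) :
    FQC (pullback.fst g q) :=
  MorphismProperty.pullback_fst (P := FQC) _ _ hq

theorem FQC.pullback_snd {Z Y T : Scheme.{u}} {q : Z ⟶ Y} (hq : FQC q) (g : T ⟶ Y) :
    FQC (pullback.snd q g) :=
  MorphismProperty.pullback_snd (P := FQC) _ _ hq

instance : FCov.{u}.IsStableUnderBaseChange where
  of_isPullback {X Y Y' S} f g f' g' sq hg := by
    obtain ⟨Z, q, r, hr, hq⟩ := hg
    have hc : (pullback.snd f q ≫ r) ≫ g = pullback.fst f q ≫ f := by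
      rw [Category.assoc, hr, pullback.condition]
    refine ⟨pullback f q, pullback.fst f q, sq.lift (pullback.snd f q ≫ r) (pullback.fst f q) hc,
      sq.lift_snd _ _ _, hq.pullback_fst f⟩

theorem FCov.id_mem (T : Scheme.{u}) : FCov (𝟙 T) :=
  ⟨T, 𝟙 T, 𝟙 T, Category.id_comp _, FQC.id_mem T⟩

theorem FCov.comp {X Y W : Scheme.{u}} {p₁ : X ⟶ Y} {p₂ : Y ⟶ W} (h₁ : FCov p₁) (h₂ : FCov p₂) :
    FCov (p₁ ≫ p₂) := by
  obtain ⟨Z₁, q₁, r₁, hr₁, hq₁⟩ := h₁
  obtain ⟨Z₂, q₂, r₂, hr₂, hq₂⟩ := h₂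
  refine ⟨pullback r₂ q₁, pullback.fst r₂ q₁ ≫ q₂, pullback.snd r₂ q₁ ≫ r₁, ?_,
    FQC.comp_mem _ _ (hq₁.pullback_fst r₂) hq₂⟩
  rw [Category.assoc, ← Category.assoc r₁, hr₁, ← Category.assoc, ← pullback.condition,
    Category.assoc, hr₂]

instance : FCov.{u}.IsMultiplicative where
  id_mem := FCov.id_mem
  comp_mem _ _ hf hg := FCov.comp hf hg

theorem FQC.generate_mem {Z Y : Scheme.{u}} {q : Z ⟶ Y} (hq : FQC q) :
    Sieve.generate (Presieve.singleton q) ∈ Scheme.fpqcTopology Y := by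
  apply Precoverage.generate_mem_toGrothendieck
  refine ⟨?_, ?_⟩
  · rw [← PreZeroHypercover.presieve₀_singleton.{_, _, u}, Scheme.presieve₀_mem_qcPrecoverage_iff]
    exact hq.2
  · rw [Scheme.singleton_mem_precoverage_iff]
    exact ⟨hq.2.surjective.surj, hq.1⟩

theorem FCov.generate_mem {X Y : Scheme.{u}} {p : X ⟶ Y} (h : FCov p) :
    Sieve.generate (Presieve.singleton p) ∈ Scheme.fpqcTopology Y := by
  obtain ⟨Z, q, r, rfl, hq⟩ := h
  refine Scheme.fpqcTopology.superset_covering ?_ hq.generate_mem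
  rw [Sieve.generate_le_iff]
  rintro _ _ ⟨⟩
  exact ⟨_, r, p, ⟨⟩, rfl⟩

theorem FCov.effectiveEpi {X Y : Scheme.{u}} {p : X ⟶ Y} (h : FCov p) : EffectiveEpi p := by
  rw [← Sieve.effectiveEpimorphic_singleton,
    Presieve.EffectiveEpimorphic.iff_forall_isSheafFor_yoneda]
  intro W
  exact (GrothendieckTopology.Subcanonical.isSheaf_of_isRepresentable _).isSheafFor _
    h.generate_mem

end Groth.Agent.Lib.Helper6.FlatQ
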