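import Mathlib
import Groth.Agent.Lib.Helper6.FlatQ.FCov

/-!
# The locus over which a morphism has a property local for the fpqc topology
-/

open CategoryTheory CategoryTheory.Limits AlgebraicGeometry MorphismProperty

namespace Groth.Agent.Lib.Helper6.FlatQ

universe u

theorem WQC.of_isOpenMap {Z Y : Scheme.{u}} (q : Z ⟶ Y) (ho : IsOpenMap q.base)
    (hs : Function.Surjective q.base) : WQC q := by
  refine ⟨fun {U} hU => ?_⟩
  exact IsCompactOpenCovered.of_isOpenMap (fun _ => q.continuous) (fun _ => ho)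
    (fun x _ => ⟨PUnit.unit, hs x⟩) U.2 hU.isCompact

variable {X Y X' Y' : Scheme.{u}} {f : X ⟶ Y} {g : Y' ⟶ Y} {g' : X' ⟶ X} {f' : X' ⟶ Y'}

theorem isPullback_restrict (H : IsPullback g' f' f g) (W : Y.Opens) (W₁ : Y'.Opens)
    (hW : W₁ ≤ g ⁻¹ᵁ W) :
    ∃ t : (f' ⁻¹ᵁ W₁).toScheme ⟶ (f ⁻¹ᵁ W).toScheme,
      IsPullback t (f' ∣_ W₁) (f ∣_ W) (g.resLE W W₁ hW) := by
  have hUY : f' ⁻¹ᵁ W₁ = g' ⁻¹ᵁ (f ⁻¹ᵁ W) ⊓ f' ⁻¹ᵁ W₁ := by
    refine (inf_eq_right.mpr ?_).symm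
    rw [← Scheme.Hom.comp_preimage, H.w, Scheme.Hom.comp_preimage]
    exact f'.preimage_mono hW
  have := Scheme.Hom.isPullback_resLE H (US := W) (UT := W₁) (UX := f ⁻¹ᵁ W) hW le_rfl hUY
  rw [Scheme.Hom.resLE_eq_morphismRestrict, Scheme.Hom.resLE_eq_morphismRestrict] at this
  exact ⟨_, this⟩

theorem prop_restrict_preimage (P : MorphismProperty Scheme.{u}) [P.IsStableUnderBaseChange]
    (H : IsPullback g' f' f g) (W : Y.Opens) (hW : P (f ∣_ W)) : P (f' ∣_ (g ⁻¹ᵁ W)) := by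
  obtain ⟨t, ht⟩ := isPullback_restrict H W (g ⁻¹ᵁ W) le_rfl
  exact P.of_isPullback ht hW

/-- The image of an open under an open map. -/
def imageOpens (g : Y' ⟶ Y) (hg : IsOpenMap g.base) (W₁ : Y'.Opens) : Y.Opens :=
  ⟨g.base '' (W₁ : Set Y'), hg _ W₁.2⟩

theorem le_preimage_imageOpens (g : Y' ⟶ Y) (hg : IsOpenMap g.base) (W₁ : Y'.Opens) :
    W₁ ≤ g ⁻¹ᵁ (imageOpens g hg W₁) := fun x hx => ⟨x, hx, rfl⟩

theorem prop_restrict_image (P : MorphismProperty Scheme.{u}) [P.DescendsAlong FQC.{u}]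
    (H : IsPullback g' f' f g) [Flat g] (hg : IsOpenMap g.base) (W₁ : Y'.Opens)
    (hW₁ : P (f' ∣_ W₁)) : P (f ∣_ (imageOpens g hg W₁)) := by
  obtain ⟨t, ht⟩ := isPullback_restrict H (imageOpens g hg W₁) W₁ (le_preimage_imageOpens g hg W₁)
  refine MorphismProperty.of_isPullback_of_descendsAlong (P := P) (Q := FQC) ht.flip ⟨?_, ?_⟩ hW₁
  · infer_instance
  · refine WQC.of_isOpenMap _ ?_ ?_
    · rw [(imageOpens g hg W₁).ι.isOpenEmbedding.isOpenMap_iff]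
      have h1 : ((imageOpens g hg W₁).ι.base : _ → _) ∘
          ((g.resLE (imageOpens g hg W₁) W₁ (le_preimage_imageOpens g hg W₁)).base : _ → _) =
          (g.base : _ → _) ∘ (W₁.ι.base : _ → _) := by
        funext x
        have := congrArg (fun z : W₁.toScheme ⟶ Y => z.base x)
          (Scheme.Hom.resLE_comp_ι g (le_preimage_imageOpens g hg W₁))
        simpa using this
      rw [h1]
      exact hg.comp W₁.ι.isOpenEmbedding.isOpenMap
    · rintro ⟨y, ⟨x, hx, rfl⟩⟩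
      refine ⟨⟨x, hx⟩, ?_⟩
      apply Subtype.ext
      exact Scheme.Hom.coe_resLE_apply g (le_preimage_imageOpens g hg W₁) ⟨x, hx⟩

end Groth.Agent.Lib.Helper6.FlatQ
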