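import Mathlib
import Groth.Agent.Lib.Helper6.FlatQ.Graph

/-!
# The kernel of an fpqc quotient `G → G/G'` of group schemes
-/

open CategoryTheory CategoryTheory.Limits MonoidalCategory CartesianMonoidalCategory MonObj GrpObj
  AlgebraicGeometry

namespace Groth.Agent.Lib.Helper6.FlatQ

universe v u

section Cat

variable {C : Type u} [Category.{v} C] [CartesianMonoidalCategory C]
  {G G' G'' : C} [GrpObj G] [GrpObj G'] (u : G' ⟶ G) (p : G ⟶ G'')

theorem lift_whisker_mul {T : C} (a : T ⟶ G) (h : T ⟶ G') :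
    lift a h ≫ (G ◁ u) ≫ μ[G] = a * (h ≫ u) := by
  rw [← Category.assoc, lift_whiskerLeft, Hom.mul_def]

variable (G) in
/-- The shear map `(a, b) ↦ (a b, a)`. -/
def shear : G ⊗ G ⟶ G ⊗ G := lift μ[G] (fst G G)

variable (G) in
/-- The inverse of the shear map `(a, b) ↦ (b, b⁻¹ a)`. -/
def shearInv : G ⊗ G ⟶ G ⊗ G := lift (snd G G) ((snd G G)⁻¹ * fst G G)

theorem shear_shearInv : shear G ≫ shearInv G = 𝟙 _ := by
  unfold shear shearInv
  rw [comp_lift, comp_mul, comp_inv, lift_snd, lift_fst, mul_eq_mul, inv_mul_cancel_left,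
    lift_fst_snd]

theorem shearInv_shear : shearInv G ≫ shear G = 𝟙 _ := by
  unfold shear shearInv
  rw [comp_lift, lift_fst, mul_eq_mul, comp_mul, lift_fst, lift_snd, mul_inv_cancel_left,
    lift_fst_snd]

instance : IsIso (shear G) := ⟨shearInv G, shear_shearInv, shearInv_shear⟩

theorem lift_mul_fst_eq : lift ((G ◁ u) ≫ μ[G]) (fst G G') = (G ◁ u) ≫ shear G := by
  unfold shear
  apply CartesianMonoidalCategory.hom_ext
  · rw [lift_fst, Category.assoc, lift_fst]
  · rw [lift_snd, Category.assoc, lift_snd, whiskerLeft_fst]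

theorem isPullback_kernel [Mono u] (hsq : IsPullback ((G ◁ u) ≫ μ[G]) (fst G G') p p) :
    IsPullback u (toUnit G') p (η[G] ≫ p) := by
  have hw : u ≫ p = toUnit G' ≫ η[G] ≫ p := by
    have h0 : lift (toUnit G' ≫ η[G]) (𝟙 G') ≫ (G ◁ u) ≫ μ[G] = u := by
      rw [lift_whisker_mul, ← Hom.one_def, _root_.one_mul, Category.id_comp]
    have h1 := congrArg (fun z => lift (toUnit G' ≫ η[G]) (𝟙 G') ≫ z) hsq.w
    rw [← Category.assoc, h0, lift_fst_assoc] at h1
    rw [h1, Category.assoc]
  refine ⟨⟨hw⟩, ⟨PullbackCone.IsLimit.mk hw ?_ ?_ ?_ ?_⟩⟩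
  · intro s
    refine hsq.lift s.fst (s.snd ≫ η[G]) ?_ ≫ snd G G'
    rw [s.condition, Category.assoc]
  · intro s
    have hc : s.fst ≫ p = (s.snd ≫ η[G]) ≫ p := by rw [s.condition, Category.assoc]
    set z := hsq.lift s.fst (s.snd ≫ η[G]) hc with hz
    have h1 : z ≫ (G ◁ u) ≫ μ[G] = s.fst := hsq.lift_fst _ _ _
    have h2 : z ≫ fst G G' = s.snd ≫ η[G] := hsq.lift_snd _ _ _
    have h3 : z = lift (z ≫ fst G G') (z ≫ snd G G') := by
      apply CartesianMonoidalCategory.hom_ext
      · rw [lift_fst]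
      · rw [lift_snd]
    rw [h3, lift_whisker_mul, h2] at h1
    have h4 : s.snd = toUnit _ := toUnit_unique _ _
    rw [h4, ← Hom.one_def, _root_.one_mul] at h1
    exact h1
  · intro s
    exact toUnit_unique _ _
  · intro s m hm _
    rw [← cancel_mono u, hm]
    have hc : s.fst ≫ p = (s.snd ≫ η[G]) ≫ p := by rw [s.condition, Category.assoc]
    set z := hsq.lift s.fst (s.snd ≫ η[G]) hc with hz
    have h1 : z ≫ (G ◁ u) ≫ μ[G] = s.fst := hsq.lift_fst _ _ _
    have h2 : z ≫ fst G G' = s.snd ≫ η[G] := hsq.lift_snd _ _ _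
    have h3 : z = lift (z ≫ fst G G') (z ≫ snd G G') := by
      apply CartesianMonoidalCategory.hom_ext
      · rw [lift_fst]
      · rw [lift_snd]
    rw [h3, lift_whisker_mul, h2] at h1
    have h4 : s.snd = toUnit _ := toUnit_unique _ _
    rw [h4, ← Hom.one_def, _root_.one_mul] at h1
    exact h1.symm

end Cat

section Sch

variable {S : Scheme.{u}} {G G' G'' : Over S}

theorem isImmersion_section (e : 𝟙_ (Over S) ⟶ G'') : IsImmersion e.left := by
  have : IsImmersion (e.left ≫ G''.hom) := by
    rw [Over.w e]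
    change IsImmersion (𝟙 S)
    infer_instance
  exact IsImmersion.of_comp e.left G''.hom

theorem isClosedImmersion_section [IsSeparated G''.hom] (e : 𝟙_ (Over S) ⟶ G'') :
    IsClosedImmersion e.left := by
  have : IsClosedImmersion (e.left ≫ G''.hom) := by
    rw [Over.w e]
    change IsClosedImmersion (𝟙 S)
    infer_instance
  exact IsClosedImmersion.of_comp e.left G''.hom

variable [GrpObj G] [GrpObj G'] (u : G' ⟶ G) [Mono u] (p : G ⟶ G'')

theorem isIso_left {A B : Over S} (f : A ⟶ B) [IsIso f] : IsIso f.left :=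
  ((Over.forget S).mapIso (asIso f)).isIso_hom

theorem kernel_props {Z : Scheme.{u}} (q : Z ⟶ G''.left) (r : Z ⟶ G.left) (h : r ≫ p.left = q)
    (hq : FQC q) (hsq : IsPullback ((G ◁ u) ≫ μ[G]) (fst G G') p p) :
    IsPullback u (toUnit G') p (η[G] ≫ p) ∧ IsImmersion u.left ∧
    (IsSeparated G''.hom ↔ IsClosedImmersion u.left) ∧
    (IsClosedImmersion u.left ↔ IsClosedImmersion (η[G] ≫ p).left) := by
  have hk := isPullback_kernel u p hsq
  have hkl : IsPullback u.left (toUnit G').left p.left (η[G] ≫ p).left :=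
    hk.map (Over.forget S)
  have h1 : IsImmersion u.left :=
    MorphismProperty.of_isPullback (P := @IsImmersion) hkl.flip (isImmersion_section _)
  have h2 : IsSeparated G''.hom → IsClosedImmersion u.left := fun _ =>
    MorphismProperty.of_isPullback (P := @IsClosedImmersion) hkl.flip (isClosedImmersion_section _)
  have h3 : IsClosedImmersion u.left → IsSeparated G''.hom := by
    intro hu
    refine isSeparated_of_isClosedImmersion_graph p q r h hq ?_
    have e1 : hsq.isoPullback.hom ≫ graphMap p = (G ◁ u) ≫ shear G := by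
      rw [← lift_mul_fst_eq]
      apply CartesianMonoidalCategory.hom_ext
      · rw [Category.assoc, lift_fst, lift_fst, hsq.isoPullback_hom_fst]
      · rw [Category.assoc, lift_snd, lift_snd, hsq.isoPullback_hom_snd]
    have e2 : graphMap p = hsq.isoPullback.inv ≫ (G ◁ u) ≫ shear G := by
      rw [← e1, Iso.inv_hom_id_assoc]
    rw [e2, Over.comp_left, Over.comp_left]
    have i1 : IsIso hsq.isoPullback.inv.left := isIso_left _
    have i2 : IsIso (shear G).left := isIso_left _
    have i3 : IsClosedImmersion (G ◁ u).left := by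
      rw [Over.whiskerLeft_left]
      exact MorphismProperty.pullbackMap (P := @IsClosedImmersion)
        (MorphismProperty.id_mem _ _) hu (Category.id_comp _).symm (Over.w u).symm
    infer_instance
  refine ⟨hk, h1, ⟨h2, h3⟩, ?_, ?_⟩
  · intro hu
    have := h3 hu
    exact isClosedImmersion_section _
  · intro he
    exact MorphismProperty.of_isPullback (P := @IsClosedImmersion) hkl.flip he

end Sch

end Groth.Agent.Lib.Helper6.FlatQ
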