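import Mathlib
import Groth.Agent.Lib.Helper6.FlatQ.Kernel
import Groth.Agent.Lib.Helper6.FlatQ.FCov

/-!
# The group structure on an fpqc quotient `G/G'` by a normal subgroup
-/

open CategoryTheory CategoryTheory.Limits MonoidalCategory CartesianMonoidalCategory MonObj GrpObj
  AlgebraicGeometry

namespace Groth.Agent.Lib.Helper6.FlatQ

universe v u

section Cat

variable {C : Type u} [Category.{v} C] [CartesianMonoidalCategory C]

/-- A descent morphism: an epimorphism through which every morphism constant on its fibres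
factors. -/
structure IsDesc {X Y : C} (p : X ⟶ Y) : Prop where
  epi : Epi p
  desc : ∀ {W : C} (f : X ⟶ W), (∀ {T : C} (a b : T ⟶ X), a ≫ p = b ≫ p → a ≫ f = b ≫ f) →
    ∃ f' : Y ⟶ W, p ≫ f' = f

section Star

variable {H : C} (m : H ⊗ H ⟶ H)

/-- The pointwise product induced by `m`. -/
def star {T : C} (x y : T ⟶ H) : T ⟶ H := lift x y ≫ m

theorem comp_star {T T' : C} (f : T' ⟶ T) (x y : T ⟶ H) :
    f ≫ star m x y = star m (f ≫ x) (f ≫ y) := by
  unfold star
  rw [← Category.assoc, comp_lift]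

theorem whiskerRight_comp_eq_star {A : C} (f : A ⟶ H) :
    f ▷ H ≫ m = star m (fst A H ≫ f) (snd A H) := by
  unfold star
  congr 1
  apply CartesianMonoidalCategory.hom_ext
  · rw [whiskerRight_fst, lift_fst]
  · rw [whiskerRight_snd, lift_snd]

theorem whiskerLeft_comp_eq_star {A : C} (f : A ⟶ H) :
    H ◁ f ≫ m = star m (fst H A) (snd H A ≫ f) := by
  unfold star
  congr 1
  apply CartesianMonoidalCategory.hom_ext
  · rw [whiskerLeft_fst, lift_fst]
  · rw [whiskerLeft_snd, lift_snd]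

end Star

theorem exists_grpObj_quot {G G' G'' : C} [GrpObj G] [GrpObj G'] (u : G' ⟶ G) [IsMonHom u]
    (p : G ⟶ G'')
    (hfib : ∀ {T : C} (a b : T ⟶ G), a ≫ p = b ≫ p ↔ ∃ h : T ⟶ G', a = b * (h ≫ u))
    (hN : ∀ {T : C} (g : T ⟶ G) (n : T ⟶ G'), ∃ n' : T ⟶ G', g * (n ≫ u) * g⁻¹ = n' ≫ u)
    (h1 : IsDesc p) (h2 : IsDesc (p ⊗ₘ p)) (h3 : Epi ((p ⊗ₘ p) ⊗ₘ p)) :
    ∃ _ : GrpObj G'', IsMonHom p ∧
      ∀ m : G'' ⊗ G'' ⟶ G'', (p ⊗ₘ p) ≫ m = μ[G] ≫ p → m = μ[G''] := by
  have hmulc : ∀ {T : C} (a a' b b' : T ⟶ G), a ≫ p = a' ≫ p → b ≫ p = b' ≫ p →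
      (a * b) ≫ p = (a' * b') ≫ p := by
    intro T a a' b b' ha hb
    obtain ⟨h, rfl⟩ := (hfib a a').mp ha
    obtain ⟨k, rfl⟩ := (hfib b b').mp hb
    obtain ⟨n', hn'⟩ := hN b'⁻¹ h
    rw [_root_.inv_inv] at hn'
    refine (hfib _ _).mpr ⟨n' * k, ?_⟩
    have := MonObj.mul_comp n' k u
    rw [this, ← hn']
    group
  have hinvc : ∀ {T : C} (a a' : T ⟶ G), a ≫ p = a' ≫ p → a⁻¹ ≫ p = a'⁻¹ ≫ p := by
    intro T a a' ha
    obtain ⟨h, rfl⟩ := (hfib a a').mp ha
    obtain ⟨n', hn'⟩ := hN a' h⁻¹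
    refine (hfib _ _).mpr ⟨n', ?_⟩
    rw [← hn', GrpObj.inv_comp]
    group
  obtain ⟨m, hm⟩ := h2.desc (μ[G] ≫ p) (by
    intro T a b hab
    have e1 := congrArg (fun z => z ≫ fst G'' G'') hab
    have e2 := congrArg (fun z => z ≫ snd G'' G'') hab
    simp only [Category.assoc, tensorHom_fst, tensorHom_snd] at e1 e2
    have := hmulc (a ≫ fst G G) (b ≫ fst G G) (a ≫ snd G G) (b ≫ snd G G)
      (by rw [Category.assoc, Category.assoc]; exact e1)
      (by rw [Category.assoc, Category.assoc]; exact e2)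
    rw [← MonObj.comp_mul, ← MonObj.comp_mul, ← MonObj.mul_eq_mul, Category.assoc,
      Category.assoc] at this
    exact this)
  obtain ⟨i, hi⟩ := h1.desc (ι[G] ≫ p) (by
    intro T a b hab
    have := hinvc a b hab
    rw [Hom.inv_def, Hom.inv_def, Category.assoc, Category.assoc] at this
    exact this)
  have hA : ∀ {T : C} (a b : T ⟶ G), star m (a ≫ p) (b ≫ p) = (a * b) ≫ p := by
    intro T a b
    unfold star
    rw [← lift_map, Category.assoc, hm, Hom.mul_def, Category.assoc]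
  have := h1.epi
  have := h2.epi
  have hone_mul : ((η[G] ≫ p) ▷ G'') ≫ m = (λ_ G'').hom := by
    have key : (λ_ G'').inv ≫ ((η[G] ≫ p) ▷ G'') ≫ m = 𝟙 _ := by
      rw [← cancel_epi p, whiskerRight_comp_eq_star, comp_star, comp_star, Category.comp_id]
      rw [leftUnitor_inv_snd, leftUnitor_inv_fst_assoc, Category.comp_id]
      have e : p ≫ toUnit G'' ≫ η[G] ≫ p = (toUnit G ≫ η[G]) ≫ p := by
        rw [← Category.assoc, toUnit_unique (p ≫ toUnit G'') (toUnit G), Category.assoc]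
      rw [e]
      have e2 : star m ((toUnit G ≫ η[G]) ≫ p) p = star m ((toUnit G ≫ η[G]) ≫ p) (𝟙 G ≫ p) := by
        rw [Category.id_comp]
      rw [e2, hA, ← Hom.one_def, _root_.one_mul, Category.id_comp]
    have := (Iso.inv_comp_eq _).mp key
    rw [Category.comp_id] at this
    exact this
  have hmul_one : (G'' ◁ (η[G] ≫ p)) ≫ m = (ρ_ G'').hom := by
    have key : (ρ_ G'').inv ≫ (G'' ◁ (η[G] ≫ p)) ≫ m = 𝟙 _ := by
      rw [← cancel_epi p, whiskerLeft_comp_eq_star, comp_star, comp_star, Category.comp_id]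
      rw [rightUnitor_inv_fst, rightUnitor_inv_snd_assoc, Category.comp_id]
      have e : p ≫ toUnit G'' ≫ η[G] ≫ p = (toUnit G ≫ η[G]) ≫ p := by
        rw [← Category.assoc, toUnit_unique (p ≫ toUnit G'') (toUnit G), Category.assoc]
      rw [e]
      have e2 : star m p ((toUnit G ≫ η[G]) ≫ p) = star m (𝟙 G ≫ p) ((toUnit G ≫ η[G]) ≫ p) := by
        rw [Category.id_comp]
      rw [e2, hA, ← Hom.one_def, _root_.mul_one, Category.id_comp]
    have := (Iso.inv_comp_eq _).mp key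
    rw [Category.comp_id] at this
    exact this
  have hassoc : (m ▷ G'') ≫ m = (α_ G'' G'' G'').hom ≫ (G'' ◁ m) ≫ m := by
    rw [← cancel_epi ((p ⊗ₘ p) ⊗ₘ p), whiskerRight_comp_eq_star, whiskerLeft_comp_eq_star,
      comp_star, comp_star, comp_star]
    rw [tensorHom_fst_assoc, tensorHom_snd, hm, associator_naturality_assoc,
      associator_naturality_assoc, tensorHom_fst, tensorHom_snd_assoc, hm]
    rw [← Category.assoc (fst _ _), hA, ← Category.assoc, ← Category.assoc _ μ[G] p,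
      ← Category.assoc, hA]
    congr 1
    rw [mul_eq_mul, comp_mul, comp_mul, comp_mul,
      associator_hom_snd_fst, associator_hom_snd_snd, _root_.mul_assoc, associator_hom_fst]
  have hunit : p ≫ toUnit G'' ≫ η[G] ≫ p = (1 : G ⟶ G) ≫ p := by
    rw [← Category.assoc, toUnit_unique (p ≫ toUnit G'') (toUnit G), Hom.one_def, Category.assoc]
  have hleft : lift i (𝟙 G'') ≫ m = toUnit G'' ≫ η[G] ≫ p := by
    rw [← cancel_epi p, hunit]
    change p ≫ star m i (𝟙 G'') = _
    rw [comp_star, hi, Category.comp_id]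
    have e2 : star m (ι[G] ≫ p) p = star m (ι[G] ≫ p) (𝟙 G ≫ p) := by rw [Category.id_comp]
    rw [e2, hA, inv_eq_inv, inv_mul_cancel]
  have hright : lift (𝟙 G'') i ≫ m = toUnit G'' ≫ η[G] ≫ p := by
    rw [← cancel_epi p, hunit]
    change p ≫ star m (𝟙 G'') i = _
    rw [comp_star, hi, Category.comp_id]
    have e2 : star m p (ι[G] ≫ p) = star m (𝟙 G ≫ p) (ι[G] ≫ p) := by rw [Category.id_comp]
    rw [e2, hA, inv_eq_inv, mul_inv_cancel]
  letI inst : GrpObj G'' :=
    { one := η[G] ≫ p, mul := m, one_mul := hone_mul, mul_one := hmul_one,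
      mul_assoc := hassoc, inv := i, left_inv := hleft, right_inv := hright }
  refine ⟨inst, ?_, ?_⟩
  · exact { one_hom := rfl, mul_hom := hm.symm }
  · intro m' hm'
    rw [← cancel_epi (p ⊗ₘ p), hm']
    exact hm.symm

end Cat

section Sch

variable {S : Scheme.{u}}

theorem prop_tensorHom' (P : MorphismProperty Scheme.{u}) [P.IsStableUnderBaseChange]
    [P.IsMultiplicative] {A B A' B' : Over S} (f : A ⟶ B) (g : A' ⟶ B') (hf : P f.left)
    (hg : P g.left) : P (f ⊗ₘ g).left := by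
  rw [MonoidalCategory.tensorHom_def, Over.comp_left]
  refine P.comp_mem _ _ ?_ ?_
  · rw [Over.whiskerRight_left]
    exact MorphismProperty.pullbackMap hf (P.id_mem _) (Over.w f).symm (Category.id_comp _).symm
  · rw [Over.whiskerLeft_left]
    exact MorphismProperty.pullbackMap (P.id_mem _) hg (Category.id_comp _).symm (Over.w g).symm

theorem isDesc_of_FCov {X Y : Over S} (p : X ⟶ Y) (h : FCov p.left) : IsDesc p := by
  have := h.effectiveEpi
  have hepi : Epi p.left := inferInstance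
  refine ⟨Over.epi_of_epi_left p, ?_⟩
  intro W f hf
  have hcond : ∀ {Z : Scheme.{u}} (g₁ g₂ : Z ⟶ X.left), g₁ ≫ p.left = g₂ ≫ p.left →
      g₁ ≫ f.left = g₂ ≫ f.left := by
    intro Z g₁ g₂ hg
    have h2 : g₂ ≫ X.hom = g₁ ≫ X.hom := by
      rw [← Over.w p, ← Category.assoc, ← hg, Category.assoc]
    let T : Over S := Over.mk (g₁ ≫ X.hom)
    let a : T ⟶ X := Over.homMk g₁ rfl
    let b : T ⟶ X := Over.homMk g₂ h2
    have := hf a b (Over.OverMorphism.ext hg)
    exact congrArg (fun z => z.left) this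
  let f' := EffectiveEpi.desc p.left f.left hcond
  have hfac : p.left ≫ f' = f.left := EffectiveEpi.fac p.left f.left hcond
  have hw : f' ≫ W.hom = Y.hom := by
    rw [← cancel_epi p.left, ← Category.assoc, hfac, Over.w f, Over.w p]
  exact ⟨Over.homMk f' hw, Over.OverMorphism.ext hfac⟩

theorem exists_grpObj_of_FCov {G G' G'' : Over S} [GrpObj G] [GrpObj G'] (u : G' ⟶ G)
    [IsMonHom u] (p : G ⟶ G'') (hcov : FCov p.left)
    (hsq : IsPullback ((G ◁ u) ≫ μ[G]) (fst G G') p p)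
    (hN : ∀ (T : Over S) (g : T ⟶ G) (n : T ⟶ G'), ∃ n' : T ⟶ G', g * (n ≫ u) * g⁻¹ = n' ≫ u) :
    ∃ _ : GrpObj G'', IsMonHom p ∧
      ∀ m : G'' ⊗ G'' ⟶ G'', (p ⊗ₘ p) ≫ m = μ[G] ≫ p → m = μ[G''] := by
  refine exists_grpObj_quot u p ?_ (fun g n => hN _ g n) (isDesc_of_FCov p hcov)
    (isDesc_of_FCov _ (prop_tensorHom' FCov p p hcov hcov))
    (isDesc_of_FCov _ (prop_tensorHom' FCov _ p (prop_tensorHom' FCov p p hcov hcov) hcov)).epi
  intro T a b
  constructor
  · intro hab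
    let z := hsq.lift a b hab
    have h1 : z ≫ (G ◁ u) ≫ μ[G] = a := hsq.lift_fst _ _ _
    have h2 : z ≫ fst G G' = b := hsq.lift_snd _ _ _
    have h3 : z = lift (z ≫ fst G G') (z ≫ snd G G') := by
      apply CartesianMonoidalCategory.hom_ext
      · rw [lift_fst]
      · rw [lift_snd]
    rw [h3, lift_whisker_mul, h2] at h1
    exact ⟨z ≫ snd G G', h1.symm⟩
  · rintro ⟨h, rfl⟩
    have : (lift b h ≫ (G ◁ u) ≫ μ[G]) ≫ p = b ≫ p := by
      rw [Category.assoc, hsq.w, lift_fst_assoc]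
    rw [lift_whisker_mul] at this
    exact this

end Sch

end Groth.Agent.Lib.Helper6.FlatQ
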