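import Mathlib
import Groth.Agent.Lib.Helper6.FlatQ.LocusP
import Groth.Agent.Lib.Helper6.FlatQ.QuotGrp

/-!
# The locus of a property of a homomorphism of group schemes is stable under translations
-/

open CategoryTheory CategoryTheory.Limits MonoidalCategory CartesianMonoidalCategory MonObj GrpObj
  AlgebraicGeometry

namespace Groth.Agent.Lib.Helper6.FlatQ

universe v u

section Cat

variable {C : Type u} [Category.{v} C] [CartesianMonoidalCategory C]

theorem isPullback_whiskerLeft_snd {A B : C} (u : A ⟶ B) (G : C) :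
    IsPullback (snd G A) (G ◁ u) u (snd G B) := by
  have hw : snd G A ≫ u = (G ◁ u) ≫ snd G B := (whiskerLeft_snd _ _).symm
  refine ⟨⟨hw⟩, ⟨PullbackCone.IsLimit.mk hw (fun s => lift (s.snd ≫ fst G B) s.fst) ?_ ?_ ?_⟩⟩
  · intro s
    rw [lift_snd]
  · intro s
    apply CartesianMonoidalCategory.hom_ext
    · rw [Category.assoc, whiskerLeft_fst, lift_fst]
    · rw [Category.assoc, whiskerLeft_snd, lift_snd_assoc, s.condition]
  · intro s m h1 h2
    apply CartesianMonoidalCategory.hom_ext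
    · rw [lift_fst, ← h2, Category.assoc, whiskerLeft_fst]
    · rw [lift_snd, ← h1]

section Gen

variable {T H : C} [GrpObj H] (ψ : T ⟶ H)

/-- `(t, h) ↦ (t, ψ(t) h)`. -/
def twG : T ⊗ H ⟶ T ⊗ H := lift (fst T H) ((fst T H ≫ ψ) * snd T H)

/-- `(t, h) ↦ (t, ψ(t)⁻¹ h)`. -/
def twGInv : T ⊗ H ⟶ T ⊗ H := lift (fst T H) ((fst T H ≫ ψ)⁻¹ * snd T H)

theorem twG_twGInv : twG ψ ≫ twGInv ψ = 𝟙 _ := by
  unfold twG twGInv
  rw [comp_lift, lift_fst, comp_mul, comp_inv, lift_fst_assoc, lift_snd, inv_mul_cancel_left,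
    lift_fst_snd]

theorem twGInv_twG : twGInv ψ ≫ twG ψ = 𝟙 _ := by
  unfold twG twGInv
  rw [comp_lift, lift_fst, comp_mul, lift_fst_assoc, lift_snd, mul_inv_cancel_left,
    lift_fst_snd]

theorem twG_snd : twG ψ ≫ snd T H = (ψ ▷ H) ≫ μ[H] := by
  unfold twG
  rw [lift_snd, whiskerRight_comp_eq_star]
  rfl

instance : IsIso (twG ψ) := ⟨twGInv ψ, twG_twGInv ψ, twGInv_twG ψ⟩

end Gen

variable {G H : C} [GrpObj G] [GrpObj H] (u : G ⟶ H)

/-- `(g, h) ↦ (g, u(g) h)`. -/
def tw : G ⊗ H ⟶ G ⊗ H := lift (fst G H) ((fst G H ≫ u) * snd G H)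

/-- `(g, h) ↦ (g, u(g)⁻¹ h)`. -/
def twInv : G ⊗ H ⟶ G ⊗ H := lift (fst G H) ((fst G H ≫ u)⁻¹ * snd G H)

theorem tw_twInv : tw u ≫ twInv u = 𝟙 _ := by
  unfold tw twInv
  rw [comp_lift, lift_fst, comp_mul, comp_inv, lift_fst_assoc, lift_snd, inv_mul_cancel_left,
    lift_fst_snd]

theorem twInv_tw : twInv u ≫ tw u = 𝟙 _ := by
  unfold tw twInv
  rw [comp_lift, lift_fst, comp_mul, lift_fst_assoc, lift_snd, mul_inv_cancel_left,
    lift_fst_snd]

theorem tw_snd : tw u ≫ snd G H = (u ▷ H) ≫ μ[H] := by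
  unfold tw
  rw [lift_snd, whiskerRight_comp_eq_star]
  rfl

theorem whiskerLeft_twInv [IsMonHom u] : (G ◁ u) ≫ twInv u = twInv (𝟙 G) ≫ (G ◁ u) := by
  unfold twInv
  apply CartesianMonoidalCategory.hom_ext
  · rw [Category.assoc, lift_fst, Category.assoc, whiskerLeft_fst, lift_fst]
  · rw [Category.assoc, lift_snd, Category.assoc, whiskerLeft_snd, lift_snd_assoc, comp_mul,
      comp_inv, whiskerLeft_fst_assoc, whiskerLeft_snd, Category.comp_id]
    have h1 := MonObj.mul_comp (fst G G)⁻¹ (snd G G) u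
    rw [h1, GrpObj.inv_comp]

instance : IsIso (twInv u) := ⟨tw u, twInv_tw u, tw_twInv u⟩

end Cat

section Sch

variable {S : Scheme.{u}} {G H : Over S} [GrpObj G] [GrpObj H] (u : G ⟶ H) [IsMonHom u]

theorem left_base_comp {A B D : Over S} (a : A ⟶ B) (b : B ⟶ D) (z : A.left) :
    (a ≫ b).left.base z = b.left.base (a.left.base z) := rfl

theorem key_stab (P : MorphismProperty Scheme.{u}) [P.IsStableUnderBaseChange]
    [P.DescendsAlong FQC.{u}] [Flat G.hom] [UniversallyOpen G.hom] (W : H.left.Opens)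
    (hW : P (u.left ∣_ W)) (hmax : ∀ W' : H.left.Opens, P (u.left ∣_ W') → W' ≤ W)
    (z : (G ⊗ H).left) (hz : (snd G H).left.base z ∈ W) :
    ((u ▷ H) ≫ μ[H]).left.base z ∈ W := by
  have H₀ : IsPullback (snd G G).left (G ◁ u).left u.left (snd G H).left :=
    (isPullback_whiskerLeft_snd u G).map (Over.forget S)
  have hflat : Flat (snd G H).left := by
    rw [Over.snd_left]; infer_instance
  have hopen : IsOpenMap (snd G H).left.base := by
    rw [Over.snd_left]; exact (pullback.snd G.hom H.hom).isOpenMap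
  have h1 : P ((G ◁ u).left ∣_ ((snd G H).left ⁻¹ᵁ W)) := prop_restrict_preimage P H₀ W hW
  have i1 : IsIso (twInv u).left := isIso_left _
  have i2 : IsIso (twInv (𝟙 G)).left := isIso_left _
  have H₁ : IsPullback (twInv (𝟙 G)).left (G ◁ u).left (G ◁ u).left (twInv u).left :=
    IsPullback.of_horiz_isIso ⟨by rw [← Over.comp_left, ← Over.comp_left, whiskerLeft_twInv]⟩
  have h2 := prop_restrict_preimage P H₁ _ h1
  have h3 := prop_restrict_image P H₀ hopen _ h2
  have h4 := hmax _ h3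
  apply h4
  refine ⟨(tw u).left.base z, ?_, ?_⟩
  · change (snd G H).left.base ((twInv u).left.base ((tw u).left.base z)) ∈ W
    have : (twInv u).left.base ((tw u).left.base z) = z := by
      rw [← left_base_comp, tw_twInv]
      rfl
    rw [this]
    exact hz
  · rw [← left_base_comp, tw_snd]

theorem locus_subgroup (P : MorphismProperty Scheme.{u}) [P.IsStableUnderBaseChange]
    [P.DescendsAlong FQC.{u}] [Flat G.hom] [UniversallyOpen G.hom] (W : H.left.Opens)
    (hW : P (u.left ∣_ W)) (hmax : ∀ W' : H.left.Opens, P (u.left ∣_ W') → W' ≤ W) :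
    letI V : G.left.Opens := u.left ⁻¹ᵁ W
    IsOpen (G.hom.base '' (V : Set G.left)) ∧
    (∀ g ∈ V, ∀ p : ↥(𝟙_ (Over S)).left, (𝟙_ (Over S)).hom.base p = G.hom.base g →
      η[G].left.base p ∈ V) ∧
    (∀ g ∈ V, ι[G].left.base g ∈ V) ∧
    (∀ z : ↥(G ⊗ G).left, (fst G G).left.base z ∈ V → (snd G G).left.base z ∈ V →
      μ[G].left.base z ∈ V) := by
  have K := key_stab u P W hW hmax
  have hunit : ∀ g : G.left, u.left.base g ∈ W → η[H].left.base ((toUnit G).left.base g) ∈ W := by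
    intro g hg
    have h1 := K ((lift ι[G] u).left.base g) (by rw [← left_base_comp, lift_snd]; exact hg)
    rw [← left_base_comp] at h1
    have e : lift ι[G] u ≫ (u ▷ H) ≫ μ[H] = toUnit G ≫ η[H] := by
      rw [← Category.assoc, lift_whiskerRight, ← Hom.mul_def, inv_eq_inv, GrpObj.inv_comp,
        Category.id_comp, inv_mul_cancel, Hom.one_def]
    rw [e, left_base_comp] at h1
    exact h1
  refine ⟨G.hom.isOpenMap _ (u.left ⁻¹ᵁ W).2, ?_, ?_, ?_⟩
  · intro g hg p hp
    have hp' : p = (toUnit G).left.base g := hp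
    change u.left.base (η[G].left.base p) ∈ W
    rw [← left_base_comp, IsMonHom.one_hom, hp']
    exact hunit g hg
  · intro g hg
    change u.left.base (ι[G].left.base g) ∈ W
    have h1 := K ((lift ι[G] (toUnit G ≫ η[H])).left.base g)
      (by rw [← left_base_comp, lift_snd, left_base_comp]; exact hunit g hg)
    rw [← left_base_comp] at h1
    have e : lift ι[G] (toUnit G ≫ η[H]) ≫ (u ▷ H) ≫ μ[H] = ι[G] ≫ u := by
      rw [← Category.assoc, lift_whiskerRight, ← Hom.mul_def, ← Hom.one_def, _root_.mul_one]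
    rw [e, left_base_comp] at h1
    exact h1
  · intro z _ hz2
    change u.left.base (μ[G].left.base z) ∈ W
    have h1 := K ((G ◁ u).left.base z)
      (by rw [← left_base_comp, whiskerLeft_snd, left_base_comp]; exact hz2)
    rw [← left_base_comp] at h1
    have e : (G ◁ u) ≫ (u ▷ H) ≫ μ[H] = μ[G] ≫ u := by
      rw [← Category.assoc, ← MonoidalCategory.tensorHom_def', IsMonHom.mul_hom]
    rw [e, left_base_comp] at h1
    exact h1

theorem flat_translate {T G : Over S} [GrpObj G] (ψ : T ⟶ G) [Flat T.hom] :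
    Flat (ψ ▷ G ≫ μ[G]).left := by
  rw [← twG_snd, Over.comp_left]
  have : IsIso (twG ψ).left := isIso_left _
  have : Flat (snd T G).left := by
    rw [Over.snd_left]; infer_instance
  infer_instance

end Sch

end Groth.Agent.Lib.Helper6.FlatQ
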