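import Mathlib
import Groth.Agent.Lib.Helper6.FlatQ.Twist

/-!
# The locus where a homomorphism of group schemes is universally open is an open subgroup
-/

open CategoryTheory CategoryTheory.Limits MonoidalCategory CartesianMonoidalCategory MonObj GrpObj
  AlgebraicGeometry

namespace Groth.Agent.Lib.Helper6.FlatQ

universe v u

section Cat

variable {C : Type u} [Category.{v} C] [CartesianMonoidalCategory C]

theorem isPullback_whiskerRight_fst {A B : C} (a : A ⟶ B) (G : C) :
    IsPullback (fst A G) (a ▷ G) a (fst B G) := by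
  have hw : fst A G ≫ a = (a ▷ G) ≫ fst B G := (whiskerRight_fst _ _).symm
  refine ⟨⟨hw⟩, ⟨PullbackCone.IsLimit.mk hw (fun s => lift s.fst (s.snd ≫ snd B G)) ?_ ?_ ?_⟩⟩
  · intro s
    rw [lift_fst]
  · intro s
    apply CartesianMonoidalCategory.hom_ext
    · rw [Category.assoc, whiskerRight_fst, lift_fst_assoc, s.condition]
    · rw [Category.assoc, whiskerRight_snd, lift_snd]
  · intro s m h1 h2
    apply CartesianMonoidalCategory.hom_ext
    · rw [lift_fst, ← h1]
    · rw [lift_snd, ← h2, Category.assoc, whiskerRight_snd]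

variable {T G H : C} [GrpObj G] [GrpObj H] (ψ : T ⟶ G) (u : G ⟶ H) [IsMonHom u]

theorem whiskerLeft_twG : (T ◁ u) ≫ twG (ψ ≫ u) = twG ψ ≫ (T ◁ u) := by
  unfold twG
  apply CartesianMonoidalCategory.hom_ext
  · rw [Category.assoc, lift_fst, Category.assoc, whiskerLeft_fst, lift_fst]
  · rw [Category.assoc, lift_snd, Category.assoc, whiskerLeft_snd, lift_snd_assoc, comp_mul,
      whiskerLeft_fst_assoc, whiskerLeft_snd]
    have h1 := MonObj.mul_comp (fst T G ≫ ψ) (snd T G) u
    rw [h1, Category.assoc]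

theorem whiskerLeft_twGInv : (T ◁ u) ≫ twGInv (ψ ≫ u) = twGInv ψ ≫ (T ◁ u) := by
  unfold twGInv
  apply CartesianMonoidalCategory.hom_ext
  · rw [Category.assoc, lift_fst, Category.assoc, whiskerLeft_fst, lift_fst]
  · rw [Category.assoc, lift_snd, Category.assoc, whiskerLeft_snd, lift_snd_assoc, comp_mul,
      comp_inv, whiskerLeft_fst_assoc, whiskerLeft_snd]
    have h1 := MonObj.mul_comp (fst T G ≫ ψ)⁻¹ (snd T G) u
    rw [h1, GrpObj.inv_comp, Category.assoc]

instance : IsIso (twGInv ψ) := ⟨twG ψ, twGInv_twG ψ, twG_twGInv ψ⟩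

theorem twGInv_snd : twGInv ψ ≫ snd T G = (fst T G ≫ ψ)⁻¹ * snd T G := by
  unfold twGInv
  rw [lift_snd]

end Cat

section Sch

theorem universallyOpen_of_comp_surjective {X Y Z : Scheme.{u}} (a : X ⟶ Y) (b : Y ⟶ Z)
    [Surjective a] [UniversallyOpen (a ≫ b)] : UniversallyOpen b := by
  constructor
  intro Y' Z' i₁ i₂ b' sq
  have sq1 : IsPullback (pullback.fst i₁ a) (pullback.snd i₁ a) i₁ a := IsPullback.of_hasPullback _ _
  have sq2 := sq1.paste_horiz sq
  have ho : IsOpenMap (pullback.fst i₁ a ≫ b').base :=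
    UniversallyOpen.universally_isOpenMap (f := a ≫ b) _ _ _ sq2
  have hs : Function.Surjective (pullback.fst i₁ a).base :=
    (MorphismProperty.pullback_fst (P := @Surjective) i₁ a inferInstance).surj
  intro O hO
  have : b'.base '' O = (pullback.fst i₁ a ≫ b').base '' ((pullback.fst i₁ a).base ⁻¹' O) := by
    rw [Scheme.Hom.comp_base, TopCat.coe_comp, Set.image_comp, Set.image_preimage_eq O hs]
  rw [this]
  exact ho _ (hO.preimage (pullback.fst i₁ a).continuous)

theorem exists_preimage_of_isPullback {P X Y Z : Scheme.{u}} {p1 : P ⟶ X} {p2 : P ⟶ Y}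
    {f : X ⟶ Z} {g : Y ⟶ Z} (sq : IsPullback p1 p2 f g) (x : X) (y : Y)
    (h : f.base x = g.base y) : ∃ w : P, p1.base w = x ∧ p2.base w = y := by
  obtain ⟨z, hz1, hz2⟩ := Scheme.Pullback.exists_preimage_pullback x y h
  refine ⟨sq.isoPullback.inv.base z, ?_, ?_⟩
  · rw [← Scheme.Hom.comp_apply, sq.isoPullback_inv_fst]
    exact hz1
  · rw [← Scheme.Hom.comp_apply, sq.isoPullback_inv_snd]
    exact hz2

variable {S : Scheme.{u}} {T G H : Over S} [GrpObj G] [GrpObj H] (u : G ⟶ H) [IsMonHom u]

/-- Lemma A: base change of the locus. -/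
theorem uo_baseChange (V : G.left.Opens) (hV : UniversallyOpen (V.ι ≫ u.left)) :
    UniversallyOpen (((snd T G).left ⁻¹ᵁ V).ι ≫ (T ◁ u).left) := by
  have H₀ : IsPullback (snd T G).left (T ◁ u).left u.left (snd T H).left :=
    (isPullback_whiskerLeft_snd u T).map (Over.forget S)
  have sq := (isPullback_morphismRestrict (snd T G).left V).paste_vert H₀
  exact MorphismProperty.of_isPullback (P := @UniversallyOpen) sq hV

/-- Lemma B: transport along a compatible pair of automorphisms. -/
theorem uo_transport (θ : T ⊗ G ⟶ T ⊗ G) (θH : T ⊗ H ⟶ T ⊗ H) [IsIso θ] [IsIso θH]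
    (hθ : (T ◁ u) ≫ θH = θ ≫ (T ◁ u)) (W : (T ⊗ G).left.Opens)
    (hW : UniversallyOpen (W.ι ≫ (T ◁ u).left)) :
    UniversallyOpen ((θ.left ⁻¹ᵁ W).ι ≫ (T ◁ u).left) := by
  have i1 : IsIso θ.left := isIso_left _
  have i2 : IsIso θH.left := isIso_left _
  have hθ' : θ.left ≫ (T ◁ u).left = (T ◁ u).left ≫ θH.left := by
    rw [← Over.comp_left, ← Over.comp_left, hθ]
  have e : (θ.left ⁻¹ᵁ W).ι ≫ (T ◁ u).left =
      (θ.left ∣_ W) ≫ (W.ι ≫ (T ◁ u).left) ≫ inv θH.left := by
    rw [← Category.assoc (θ.left ∣_ W), ← Category.assoc (θ.left ∣_ W), morphismRestrict_ι,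
      Category.assoc, Category.assoc, ← Category.assoc θ.left, hθ', Category.assoc,
      IsIso.hom_inv_id, Category.comp_id]
  rw [e]
  have : IsIso (θ.left ∣_ W) := inferInstance
  infer_instance

/-- Lemma C: descent along the (universally open) projection. -/
theorem uo_image [UniversallyOpen T.hom] (W' : (T ⊗ G).left.Opens)
    (hW' : UniversallyOpen (W'.ι ≫ (T ◁ u).left)) (ho : IsOpenMap (snd T G).left.base) :
    UniversallyOpen ((imageOpens (snd T G).left ho W').ι ≫ u.left) := by
  set W'' := imageOpens (snd T G).left ho W'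
  let r := (snd T G).left.resLE W'' W' (le_preimage_imageOpens _ ho W')
  have hr : r ≫ W''.ι = W'.ι ≫ (snd T G).left := Scheme.Hom.resLE_comp_ι _ _
  have hsurj : Surjective r := by
    constructor
    rintro ⟨y, ⟨x, hx, rfl⟩⟩
    refine ⟨⟨x, hx⟩, ?_⟩
    apply Subtype.ext
    exact Scheme.Hom.coe_resLE_apply _ (le_preimage_imageOpens _ ho W') ⟨x, hx⟩
  have hsnd : UniversallyOpen (snd T H).left := by
    rw [Over.snd_left]; infer_instance
  have e : r ≫ (W''.ι ≫ u.left) = (W'.ι ≫ (T ◁ u).left) ≫ (snd T H).left := by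
    rw [← Category.assoc, hr, Category.assoc, Category.assoc, ← Over.comp_left, ← Over.comp_left,
      whiskerLeft_snd]
  have : UniversallyOpen (r ≫ (W''.ι ≫ u.left)) := by
    rw [e]; infer_instance
  exact universallyOpen_of_comp_surjective r _

theorem uo_key [UniversallyOpen T.hom] (a : T ⟶ G) (V : G.left.Opens)
    (hV : UniversallyOpen (V.ι ≫ u.left))
    (hmax : ∀ W : G.left.Opens, UniversallyOpen (W.ι ≫ u.left) → W ≤ V)
    (z : (T ⊗ G).left) (hz : (snd T G).left.base z ∈ V) :
    (twG a ≫ snd T G).left.base z ∈ V ∧ (twGInv a ≫ snd T G).left.base z ∈ V := by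
  have ho : IsOpenMap (snd T G).left.base := by
    rw [Over.snd_left]; exact (pullback.snd T.hom G.hom).isOpenMap
  have hA := uo_baseChange (T := T) u V hV
  constructor
  · have hB := uo_transport u (twGInv a) (twGInv (a ≫ u)) (whiskerLeft_twGInv a u) _ hA
    have hC := hmax _ (uo_image u _ hB ho)
    apply hC
    refine ⟨(twG a).left.base z, ?_, rfl⟩
    change (snd T G).left.base ((twGInv a).left.base ((twG a).left.base z)) ∈ V
    have : (twGInv a).left.base ((twG a).left.base z) = z := by
      rw [← left_base_comp, twG_twGInv]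
      rfl
    rw [this]
    exact hz
  · have hB := uo_transport u (twG a) (twG (a ≫ u)) (whiskerLeft_twG a u) _ hA
    have hC := hmax _ (uo_image u _ hB ho)
    apply hC
    refine ⟨(twGInv a).left.base z, ?_, rfl⟩
    change (snd T G).left.base ((twG a).left.base ((twGInv a).left.base z)) ∈ V
    have : (twG a).left.base ((twGInv a).left.base z) = z := by
      rw [← left_base_comp, twGInv_twG]
      rfl
    rw [this]
    exact hz

theorem uo_locus_subgroup (hG : UniversallyOpen G.hom ∨ UniversallyOpen H.hom)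
    (V : G.left.Opens) (hV : UniversallyOpen (V.ι ≫ u.left))
    (hmax : ∀ W : G.left.Opens, UniversallyOpen (W.ι ≫ u.left) → W ≤ V) :
    IsOpen (G.hom.base '' (V : Set G.left)) ∧
    (∀ g ∈ V, ∀ p : ↥(𝟙_ (Over S)).left, (𝟙_ (Over S)).hom.base p = G.hom.base g →
      η[G].left.base p ∈ V) ∧
    (∀ g ∈ V, ι[G].left.base g ∈ V) ∧
    (∀ z : ↥(G ⊗ G).left, (fst G G).left.base z ∈ V → (snd G G).left.base z ∈ V →
      μ[G].left.base z ∈ V) := by
  let T : Over S := Over.mk (V.ι ≫ G.hom)
  let a : T ⟶ G := Over.homMk V.ι rfl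
  have hT : UniversallyOpen T.hom := by
    change UniversallyOpen (V.ι ≫ G.hom)
    rcases hG with hG | hH
    · infer_instance
    · rw [← Over.w u, ← Category.assoc]
      infer_instance
  have K := uo_key u a V hV hmax
  have hunit : ∀ t : T.left, η[G].left.base ((toUnit T).left.base t) ∈ V := by
    intro t
    have h1 := (K ((lift (𝟙 T) a).left.base t) (by
      rw [← left_base_comp, lift_snd]; exact t.2)).2
    rw [← left_base_comp] at h1
    have e : lift (𝟙 T) a ≫ twGInv a ≫ snd T G = toUnit T ≫ η[G] := by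
      rw [twGInv_snd, comp_mul, comp_inv, lift_fst_assoc, lift_snd, Category.id_comp,
        inv_mul_cancel, Hom.one_def]
    rw [e, left_base_comp] at h1
    exact h1
  refine ⟨?_, ?_, ?_, ?_⟩
  · have : G.hom.base '' (V : Set G.left) = Set.range T.hom.base := by
      change _ = Set.range (V.ι ≫ G.hom).base
      rw [Scheme.Hom.comp_base, TopCat.coe_comp, Set.range_comp]
      congr 1
      exact (Scheme.Opens.range_ι V).symm
    rw [this]
    exact T.hom.isOpenMap.isOpen_range
  · intro g hg p hp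
    have hp' : p = (toUnit T).left.base ⟨g, hg⟩ := hp
    rw [hp']
    exact hunit _
  · intro g hg
    let t : T.left := ⟨g, hg⟩
    have h1 := (K ((lift (𝟙 T) (toUnit T ≫ η[G])).left.base t) (by
      rw [← left_base_comp, lift_snd, left_base_comp]; exact hunit t)).2
    rw [← left_base_comp] at h1
    have e : lift (𝟙 T) (toUnit T ≫ η[G]) ≫ twGInv a ≫ snd T G = a ≫ ι[G] := by
      rw [twGInv_snd, comp_mul, comp_inv, lift_fst_assoc, lift_snd, Category.id_comp,
        ← Hom.one_def, _root_.mul_one, Hom.inv_def]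
    rw [e, left_base_comp] at h1
    exact h1
  · intro z hz1 hz2
    have sq : IsPullback (fst T G).left (a ▷ G).left a.left (fst G G).left :=
      (isPullback_whiskerRight_fst a G).map (Over.forget S)
    obtain ⟨w, -, hw⟩ := exists_preimage_of_isPullback sq (⟨_, hz1⟩ : T.left) z rfl
    have h1 := (K w (by
      have : (snd T G).left.base w = (snd G G).left.base ((a ▷ G).left.base w) := by
        rw [← left_base_comp, whiskerRight_snd]
      rw [this, hw]; exact hz2)).1
    rw [twG_snd, left_base_comp, hw] at h1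
    exact h1

end Sch

end Groth.Agent.Lib.Helper6.FlatQ
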