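import Mathlib

/-!
# Flatness descends through a faithfully flat extension of the target
-/

open TensorProduct

namespace Groth.Agent.Lib.Helper6.FlatQ

universe u

theorem flat_of_faithfullyFlat_tower (R S T : Type*) [CommRing R] [CommRing S] [CommRing T]
    [Algebra R S] [Algebra S T] [Algebra R T] [IsScalarTower R S T] [Module.FaithfullyFlat S T]
    [Module.Flat R T] : Module.Flat R S := by
  rw [Module.Flat.iff_lTensor_preserves_injective_linearMap]
  intro N P _ _ _ _ f hf
  have h0 : Function.Injective (TensorProduct.AlgebraTensorModule.lTensor S S f) ↔
      Function.Injective (f.lTensor S) := Iff.rfl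
  rw [← h0, ← Module.FaithfullyFlat.lTensor_injective_iff_injective S T]
  have h2 := TensorProduct.AlgebraTensorModule.lTensor_comp_cancelBaseChange
    (R := R) (A := S) (B := T) (M := T) f
  have h3 : Function.Injective (TensorProduct.AlgebraTensorModule.lTensor T T f) :=
    Module.Flat.lTensor_preserves_injective_linearMap f hf
  have h4 : Function.Injective
      ((TensorProduct.AlgebraTensorModule.cancelBaseChange R S T T P).toLinearMap ∘ₗ
        TensorProduct.AlgebraTensorModule.lTensor T T
          (TensorProduct.AlgebraTensorModule.lTensor S S f)) := by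
    rw [← h2]
    exact h3.comp (TensorProduct.AlgebraTensorModule.cancelBaseChange R S T T N).injective
  have h5 : Function.Injective
      (⇑(TensorProduct.AlgebraTensorModule.cancelBaseChange R S T T P) ∘
        ⇑(LinearMap.lTensor T (TensorProduct.AlgebraTensorModule.lTensor S S f))) := h4
  exact Function.Injective.of_comp h5

theorem RingHom.flat_of_comp_faithfullyFlat {R S T : Type*} [CommRing R] [CommRing S]
    [CommRing T] (f : R →+* S) (g : S →+* T) (hg : g.FaithfullyFlat) (hgf : (g.comp f).Flat) :
    f.Flat := by
  algebraize [f, g, g.comp f]
  have : Module.FaithfullyFlat S T := hg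
  have : Module.Flat R T := hgf
  exact flat_of_faithfullyFlat_tower R S T

end Groth.Agent.Lib.Helper6.FlatQ
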