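import Mathlib
import Groth.Agent.Lib.Helper6.FlatQ.Tower

/-!
# Flatness and reducedness descend along flat surjective maps from the source
-/

open CategoryTheory CategoryTheory.Limits AlgebraicGeometry

namespace Groth.Agent.Lib.Helper6.FlatQ

universe u

set_option backward.isDefEq.respectTransparency.types false in
theorem stalkMap_faithfullyFlat {X Y : Scheme.{u}} (f : X ⟶ Y) [Flat f] (x : X) :
    (f.stalkMap x).hom.FaithfullyFlat := by
  algebraize [(f.stalkMap x).hom]
  have : Module.FaithfullyFlat (Y.presheaf.stalk (f x)) (X.presheaf.stalk x) :=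
    @Module.FaithfullyFlat.of_flat_of_isLocalHom _ _ _ _ _ _ _
      (Flat.stalkMap f x) (f.toLRSHom.prop x)
  exact ‹RingHom.FaithfullyFlat _›

theorem flat_of_comp_flat_surjective {W G G'' : Scheme.{u}} (a : W ⟶ G) (p : G ⟶ G'')
    [Flat a] [Surjective a] [Flat (a ≫ p)] : Flat p := by
  rw [Flat.iff_flat_stalkMap]
  intro x
  obtain ⟨w, rfl⟩ := a.surjective x
  have h1 := Scheme.Hom.stalkMap_comp a p w
  have h2 : ((a ≫ p).stalkMap w).hom.Flat := Flat.stalkMap (a ≫ p) w
  rw [h1] at h2
  exact RingHom.flat_of_comp_faithfullyFlat _ _ (stalkMap_faithfullyFlat a w) h2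

theorem isReduced_of_flat_cover {G G'' Z : Scheme.{u}} (p : G ⟶ G'') (q : Z ⟶ G'') (r : Z ⟶ G)
    (h : r ≫ p = q) [Flat q] [Surjective q] [IsReduced G] : IsReduced G'' := by
  subst h
  apply +allowSynthFailures isReduced_of_isReduced_stalk
  intro y
  obtain ⟨z, rfl⟩ := (r ≫ p).surjective y
  have h1 := Scheme.Hom.stalkMap_comp r p z
  have h2 : Function.Injective ((r ≫ p).stalkMap z).hom :=
    (stalkMap_faithfullyFlat (r ≫ p) z).injective
  rw [h1] at h2
  have h2' : Function.Injective (⇑(r.stalkMap z).hom ∘ ⇑(p.stalkMap (r z)).hom) := h2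
  have h3 : Function.Injective (p.stalkMap (r z)).hom := Function.Injective.of_comp h2'
  exact isReduced_of_injective _ h3

end Groth.Agent.Lib.Helper6.FlatQ
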