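import Mathlib
import Groth.Agent.Lib.Helper6.FlatQ.Desc

/-!
# Properties of an fpqc quotient `G → G'' = G / G'`
-/

open CategoryTheory CategoryTheory.Limits MonoidalCategory CartesianMonoidalCategory MonObj
  AlgebraicGeometry

namespace Groth.Agent.Lib.Helper6.FlatQ

universe u

variable {S : Scheme.{u}} {G G' G'' : Over S} [GrpObj G] [GrpObj G']

/-- `G' → S` is a base change of the projection `G ×_S G' → G` (along the unit section). -/
theorem flat_hom_of_flat_fst (h : Flat (fst G G').left) : Flat G'.hom := by
  rw [Over.fst_left] at h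
  let e : S ⟶ G.left := η[G].left
  have he : e ≫ G.hom = 𝟙 S := Over.w η[G]
  let j : G'.left ⟶ pullback G.hom G'.hom :=
    pullback.lift (G'.hom ≫ e) (𝟙 _) (by rw [Category.assoc, he, Category.comp_id, Category.id_comp])
  have h1 : IsPullback j G'.hom (pullback.fst G.hom G'.hom) e := by
    refine IsPullback.of_right ?_ (pullback.lift_fst _ _ _)
      (IsPullback.of_hasPullback G.hom G'.hom).flip
    rw [pullback.lift_snd, he]
    exact IsPullback.of_id_fst
  exact MorphismProperty.of_isPullback (P := @Flat) h1 h

theorem quot_props (u : G' ⟶ G) (p : G ⟶ G'') {Z : Scheme.{u}} (q : Z ⟶ G''.left)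
    (r : Z ⟶ G.left) (hrq : r ≫ p.left = q) [Surjective q] [Flat q]
    (hsq : IsPullback ((G ◁ u) ≫ μ[G]) (fst G G') p p) :
    (IsReduced G.left → IsReduced G''.left) ∧
    (Flat G'.hom ↔ Flat p.left) ∧ (Flat p.left → (Flat G''.hom ↔ Flat G.hom)) := by
  have hsqL : IsPullback ((G ◁ u) ≫ μ[G]).left (fst G G').left p.left p.left :=
    hsq.map (Over.forget S)
  have hpsurj : Surjective p.left := by
    constructor
    intro y
    obtain ⟨z, hz⟩ := q.surjective y
    refine ⟨r z, ?_⟩
    rw [← hz, ← hrq]
    rfl
  refine ⟨fun _ => isReduced_of_flat_cover p.left q r hrq, ⟨fun hG' => ?_, fun hp => ?_⟩,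
    fun hp => ⟨fun hG'' => ?_, fun hG => ?_⟩⟩
  · -- `G'` flat implies `p` flat
    have hfst : Flat (fst G G').left := by
      rw [Over.fst_left]
      infer_instance
    have hbig := (IsPullback.of_hasPullback (fst G G').left r).paste_horiz hsqL
    rw [hrq] at hbig
    have ht : Flat (pullback.fst (fst G G').left r ≫ ((G ◁ u) ≫ μ[G]).left) :=
      MorphismProperty.of_isPullback (P := @Flat) hbig.flip inferInstance
    have hts : Surjective (pullback.fst (fst G G').left r ≫ ((G ◁ u) ≫ μ[G]).left) :=
      MorphismProperty.of_isPullback (P := @Surjective) hbig.flip inferInstance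
    have hcomp : Flat ((pullback.fst (fst G G').left r ≫ ((G ◁ u) ≫ μ[G]).left) ≫ p.left) := by
      rw [hbig.w]
      infer_instance
    exact flat_of_comp_flat_surjective
      (pullback.fst (fst G G').left r ≫ ((G ◁ u) ≫ μ[G]).left) p.left
  · -- `p` flat implies `G'` flat
    exact flat_hom_of_flat_fst (MorphismProperty.of_isPullback (P := @Flat) hsqL hp)
  · rw [← Over.w p]
    infer_instance
  · have : Flat (p.left ≫ G''.hom) := by
      rw [Over.w p]
      exact hG
    exact flat_of_comp_flat_surjective p.left G''.hom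

end Groth.Agent.Lib.Helper6.FlatQ
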